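import Cfsg.Agent.Lib.ChevTwo.Paths

/-!
The certificates.
-/

set_option autoImplicit false
set_option maxRecDepth 100000
set_option maxHeartbeats 0

namespace Cfsg.Agent.Lib.ChevTwo.Certs

open Cfsg Lie ChevalleyDatum
open Cfsg.Agent.Lib.ChevTwo.Run Cfsg.Agent.Lib.ChevTwo.Paths

theorem chkBG2 : checkB chevG2 [0, 1] 11 4 8 5 1 [.pi 5, .pi 4, .pi 10, .pi 2, .pi 11, .pi 3] = true := by decide +kernel

theorem chkBB2 : checkB chevB2 [0, 1] 7 3 0 5 2 [.pi 5, .pi 3, .pi 6, .pi 7] = true := by decide +kernel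

theorem chkBD4 : checkB chevD4 [0, 1, 2, 3] 23 10 8 14 1 [.pi 14, .pi 10, .comm 10 22 20 (1), .pi 22, .pi 21, .pi 20, .pi 5, .pi 15, .pi 16, .comm 10 9 7 (-1), .comm 21 7 18 (-1), .pi 7] = true := by decide +kernel

theorem chkBF4 : checkB chevF4 [0, 1, 2, 3] 30 22 16 28 1 [.pi 28, .pi 22, .pi 36, .pi 23, .pi 14, .pi 42, .pi 20, .pi 30, .pi 12, .pi 43, .pi 9, .pi 31, .pi 19, .pi 25, .pi 11, .pi 33] = true := by decide +kernel

theorem chkBE6 : checkB chevE6 [0, 1, 2, 3, 4, 5] 17 25 49 57 1 [.pi 57, .pi 25, .comm 57 13 32 (1), .comm 25 50 43 (1), .comm 25 13 10 (-1), .comm 25 32 24 (1), .comm 50 10 15 (-1), .comm 50 24 42 (1), .pi 32, .pi 43, .pi 15, .pi 42, .comm 57 48 62 (1), .comm 57 29 56 (-1), .comm 57 47 61 (1), .comm 25 47 39 (-1), .comm 25 62 59 (1), .comm 13 61 46 (-1), .comm 13 59 37 (-1), .pi 34, .pi 37] = true := by decide +kernel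

theorem chkBE7 : checkB chevE7 [0, 1, 2, 3, 4, 5, 6] 59 5 15 79 1 [.pi 79, .comm 79 5 12 (1), .comm 79 96 103 (1), .comm 5 103 39 (-1), .pi 96, .pi 103, .pi 39, .comm 79 112 119 (-1), .comm 79 56 78 (-1), .comm 5 119 62 (-1), .pi 85, .pi 112, .pi 56, .pi 119, .pi 62, .comm 5 121 64 (-1), .comm 5 125 97 (-1), .comm 5 102 38 (-1), .comm 103 38 93 (-1), .pi 105, .pi 121, .pi 59, .pi 64, .pi 97, .pi 93, .comm 5 116 47 (-1), .comm 12 116 69 (-1), .comm 12 86 29 (-1), .comm 75 29 32 (-1), .pi 69, .pi 32] = true := by decide +kernel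

theorem chkBE8 : checkB chevE8 [0, 1, 2, 3, 4, 5, 6, 7] 73 104 77 93 1 [.pi 93, .pi 104, .comm 93 141 105 (-1), .comm 104 105 99 (1), .comm 141 97 109 (1), .pi 141, .pi 105, .pi 99, .pi 109, .comm 104 163 162 (1), .pi 164, .pi 169, .pi 113, .pi 162, .comm 104 148 143 (1), .comm 104 184 174 (1), .comm 97 143 126 (-1), .comm 97 174 165 (1), .pi 116, .pi 143, .pi 126, .pi 165, .comm 104 149 144 (1), .pi 118, .pi 166, .pi 123, .pi 144, .comm 104 150 145 (1), .pi 121, .pi 167, .pi 145, .comm 104 151 146 (1), .pi 151, .pi 168, .pi 146] = true := by decide +kernel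

theorem chkCD4 : checkC chevD4 [0, 1, 2, 3] 5 2 [.piC 13, .pi 5, .refl 10 9 7 (-1), .refl 21 5 16 (1), .comm 16 9 13 (1), .piC 2, .pi 7, .pi 16, .refl 21 7 18 (-1), .refl 15 11 14 (-1), .comm 7 14 10 (-1)] = true := by decide +kernel

theorem chkCE6 : checkC chevE6 [0, 1, 2, 3, 4, 5] 56 1 [.piC 46, .negC 46, .pi 56, .refl 13 56 28 (-1), .comm 42 28 32 (1), .piC 25, .pi 32, .pi 42, .pi 28, .refl 25 32 24 (1), .refl 25 47 39 (-1), .refl 13 23 7 (-1), .comm 32 47 46 (1), .comm 39 7 9 (-1), .comm 39 24 25 (-1), .comm 39 28 29 (-1), .piC 13, .pi 34, .pi 39, .refl 51 9 15 (-1), .pi 37] = true := by decide +kernel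

theorem chkCE7 : checkC chevE7 [0, 1, 2, 3, 4, 5, 6] 93 1 [.piC 78, .pi 93, .refl 30 93 51 (-1), .comm 73 51 56 (1), .piC 95, .pi 73, .pi 51, .pi 56, .refl 30 45 22 (-1), .refl 47 79 69 (-1), .refl 47 56 46 (1), .comm 69 46 47 (-1), .comm 69 51 52 (-1), .comm 69 22 25 (-1), .comm 79 56 78 (-1), .negC 84, .pi 59, .pi 69, .refl 84 25 32 (-1), .pi 61, .pi 66, .pi 64] = true := by decide +kernel

theorem chkCE8 : checkC chevE8 [0, 1, 2, 3, 4, 5, 6, 7] 162 1 [.piC 141, .pi 162, .refl 75 162 103 (-1), .comm 162 135 163 (-1), .comm 103 135 109 (-1), .pi 163, .pi 135, .pi 109, .refl 98 109 97 (1), .refl 98 142 130 (-1), .refl 98 147 136 (1), .comm 97 130 98 (1), .comm 130 103 104 (-1), .comm 103 147 141 (-1), .pi 130, .pi 113, .refl 75 136 77 (1), .pi 116, .pi 126, .pi 118, .pi 123, .pi 121] = true := by decide +kernel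

theorem chkPF4 : checkP chevF4 [0, 1, 2, 3] 2 9 [.piP 2 9, .piP 1 19, .piP 0 11, .piP 15 33, .piP 21 27, .isoP 2 9 41 35 16 (-1), .pi 16, .comm 16 22 15 (1), .piP 41 35, .sepP 15 33, .pi 33, .pi 22, .piP 45 38, .isoP 2 9 46 28 25 (-1), .pi 23, .pi 25, .comm 42 25 43 (-1), .piP 46 28, .pi 43, .comm 25 31 32 (1), .piP 47 36, .sepP 32 14, .pi 14] = true := by decide +kernel

end Cfsg.Agent.Lib.ChevTwo.Certs
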